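import Groth.Agent.Lib.MonoQC16.Basic
import Groth.Agent.Lib.AlgSpace.Affine
import Groth.Agent.Lib.AlgSpDescent.Instances
import Groth.Agent.Lib.StAlg16.LocPInst
import Groth.Agent.Lib.StAlg16.QSBase

/-!
# Affine morphisms over a chart
-/

universe u

open CategoryTheory CategoryTheory.Functor CategoryTheory.Limits AlgebraicGeometry Opposite

set_option linter.style.haveILetI false
set_option linter.unusedSectionVars false
set_option backward.isDefEq.respectTransparency false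
set_option backward.isDefEq.respectTransparency.types false

namespace Groth.Agent.DMGen16

open Groth.Agent.FC16 hiding overMap
open Groth.Agent.StAlg Groth.Agent.StAlg16 AlgSt

variable {S : Scheme.{u}} {𝒳 𝒴 : AlgSt.Cat S}

/-- an affine morphism is a morphism of schemes over every chart -/
theorem exists_chart {f : 𝒴 ⥤ᵇ 𝒳} (gY : FibCat.IsFibGrpd 𝒴.p) (gX : FibCat.IsFibGrpd 𝒳.p)
    {R : MorphismProperty Scheme.{u}} [AlgSpace.EtaleLocal R]
    (hf : AlgSt.RepByAlgSpWith AlgSp.IsAffineMor f) (hr : AlgSt.RepByAlgSpWith (AlgSp.LocP R) f)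
    {U : Over S} (x : FibCat.overCat U ⥤ᵇ 𝒳) :
    ∃ (W : Over S) (π : W ⟶ U) (E : FibCat.overCat W ⥤ᵇ FibCat.fp x f), FibCat.IsEquivOver E ∧
      Nonempty (BasedFunctor.comp E (FibCat.fpFst x f) ≅ AlgSt.overMap π) ∧
      IsAffineHom π.left ∧ R π.left := by
  have hf' : AlgSt.RepByAlgSpWith (AlgSp.RepWith @IsAffineHom) f :=
    repByAlgSpWith_mono (fun _ _ _ _ ha => AlgSpace.isAffineMor_iff_repWith.1 ha) hf
  have hp : PreIso (AlgSp.RepWith (S := S) @IsAffineHom) := preIso_of_pullback pbP_repWith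
  obtain ⟨F, e, he, hF⟩ := hf' U x
  obtain ⟨W, ⟨i⟩⟩ : ∃ W : Over S, Nonempty ((AlgSp.yon S).obj W ≅ F.obj) :=
    ⟨hF.1.pullback (𝟙 _), ⟨(hF.1.isPullback (𝟙 _)).flip.isoIsPullback _ _
      (IsPullback.of_vert_isIso (fst := AlgSt.spMapOfOver (BasedFunctor.comp e (FibCat.fpFst x f)))
        (snd := 𝟙 F.obj) (f := 𝟙 _) (g := AlgSt.spMapOfOver (BasedFunctor.comp e (FibCat.fpFst x f))) ⟨by simp⟩)⟩⟩
  haveI : IsIso i.hom.hom := inferInstanceAs (IsIso ((sheafToPresheaf _ _).map i.hom))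
  let E := BasedFunctor.comp (AlgSt.ofOverCat W) (BasedFunctor.comp (AlgSt.ofSpMap i.hom) e)
  have hE : FibCat.IsEquivOver E := isEquivOver_comp (ofOverCat_isEquivOver W)
    (isEquivOver_comp (ofPshMap_isEquivOver (i.hom.hom)) he)
  obtain ⟨π, ⟨j⟩⟩ := exists_overMap_iso (BasedFunctor.comp E (FibCat.fpFst x f))
  have hπ : ∀ {P : MorphismProperty (AlgSp.Sp S)}, AlgSt.RepByAlgSpWith P f →
      AlgSt.RepByAlgSpWith P (AlgSt.overMap π) := fun {P} h =>
    (with_congr (f := FibCat.fpFst x f) (f' := AlgSt.overMap π) (a := E) (b := BasedFunctor.id _) hE isEquivOver_id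
      j.symm).1 (with_fpFst x h)
  exact ⟨W, π, E, hE, ⟨j⟩,
    (AlgSp.repWith_yon_map_iff _ π).1 (MonoQC16.yon_map_of_with_overMap hp π (hπ hf')),
    of_with_locP_overMap π (hπ hr)⟩

/-- a property of the restriction of the chart -/
theorem repOf_restrict {f : 𝒴 ⥤ᵇ 𝒳} {P : MorphismProperty (AlgSp.Sp S)} {U W V : Over S}
    {x : FibCat.overCat U ⥤ᵇ 𝒳} {π : W ⟶ U} {E : FibCat.overCat W ⥤ᵇ FibCat.fp x f} (hE : FibCat.IsEquivOver E)
    (j : BasedFunctor.comp E (FibCat.fpFst x f) ≅ AlgSt.overMap π) (ι : V ⟶ U) {Q : Over S} {fst : Q ⟶ W}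
    {snd : Q ⟶ V} (sq : IsPullback fst snd π ι) (hP : P ((AlgSp.yon S).map snd)) :
    RepOf P (FibCat.fpFst (BasedFunctor.comp (AlgSt.overMap ι) x) f) := by
  haveI := idFun_full (𝒳 := FibCat.overCat U)
  haveI := idFun_faithful (𝒳 := FibCat.overCat U)
  haveI := isEquivalence_of_isEquivOver (toOverCat_isEquivOver U)
  -- the category of the pullback
  let y₀ : FibCat.overCat V ⥤ᵇ AlgSt.ofSch U := BasedFunctor.comp (AlgSt.overMap ι) (AlgSt.ofOverCat U)
  have hy : mapOf (BasedFunctor.comp (AlgSt.toOverCat V) y₀) = ((AlgSp.yon S).map ι).hom := by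
    ext T' z; rfl
  have h0 : RepOf P (FibCat.fpFst y₀ (Stk.ofPshMap (P := ((AlgSp.yon S).obj W).obj) ((AlgSp.yon S).map π).hom)) :=
    repOf_of_square (((sq.map (AlgSp.yon S))).map (sheafToPresheaf (AlgSp.J S) (Type (u + 1)))) y₀ hy
      (AlgSp.IsAlgSpace.yon_obj Q) hP
  have h1 : RepOf P (FibCat.fpFst (BasedFunctor.comp y₀ (AlgSt.toOverCat U)) (AlgSt.overMap π)) := by
    have hm : FibCat.IsEquivOver (fpMap (a := BasedFunctor.id (FibCat.overCat V)) (b := AlgSt.toOverCat W)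
        (s := AlgSt.toOverCat U) (F := y₀)
        (G := Stk.ofPshMap (P := ((AlgSp.yon S).obj W).obj) ((AlgSp.yon S).map π).hom)
        (F' := BasedFunctor.comp y₀ (AlgSt.toOverCat U)) (G' := AlgSt.overMap π) (Iso.refl _) (overMapIso π)) :=
      fpMap_isEquivOver _ _ isEquivOver_id (toOverCat_isEquivOver W)
    exact repOf_of_equiv hm (Iso.refl _) h0
  have h2 : RepOf P (FibCat.fpFst (AlgSt.overMap ι) (AlgSt.overMap π)) :=
    repOf_left (wlIso (AlgSt.overMap ι) (eqToIso (ofOver_toOver U))).symm h1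
  have h3 : RepOf P (FibCat.fpFst (AlgSt.overMap ι) (FibCat.fpFst x f)) := by
    have hm : FibCat.IsEquivOver (fpMap (a := BasedFunctor.id (FibCat.overCat V)) (b := E)
        (s := BasedFunctor.id (FibCat.overCat U)) (F := AlgSt.overMap ι) (G := AlgSt.overMap π)
        (F' := AlgSt.overMap ι) (G' := FibCat.fpFst x f) (Iso.refl _) j) :=
      fpMap_isEquivOver _ _ isEquivOver_id hE
    exact repOf_of_equiv hm (Iso.refl _) h2
  exact repOf_of_equiv (pasteL_isEquivOver (AlgSt.overMap ι) x f) (Iso.refl _) h3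

/-- the base of a chart over a stack locally of finite type -/
theorem locallyOfFiniteType_chart (gX : FibCat.IsFibGrpd 𝒳.p)
    (hft : AlgSt.LocQ (AlgSp.LocP @LocallyOfFiniteType) (FibCat.toSelf 𝒳)) {U : Over S}
    (x : FibCat.overCat U ⥤ᵇ 𝒳) (hx : AlgSt.RepByAlgSpWith (AlgSp.LocP @Smooth) x) :
    LocallyOfFiniteType U.hom := by
  obtain ⟨U', V, x', y, h, α, hx', hs', hy, hh⟩ := hft
  haveI : Smooth V.hom := by
    let k : V ⟶ Over.mk (𝟙 S) := Over.homMk V.hom (Category.comp_id _)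
    obtain ⟨E, hE, -, -⟩ := exists_inverse (selfToTerm_isEquivOver (S := S))
    obtain ⟨j⟩ := selfOver_functor_iso (BasedFunctor.comp (AlgSt.overMap k) E)
      (BasedFunctor.comp (BasedFunctor.id (FibCat.overCat V)) y)
    exact of_with_locP_overMap k ((with_congr (f := y) (f' := AlgSt.overMap k)
      (a := BasedFunctor.id _) (b := E) isEquivOver_id hE j).1 hy)
  haveI : LocallyOfFiniteType h.left := (locP_yon_iff h).1 hh
  haveI : LocallyOfFiniteType U'.hom := by rw [← Over.w h]; infer_instance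
  obtain ⟨W, k, l, -, hsq, hP⟩ := exists_chart_square gX (repByAlgSp1_of_with hx') U x
  haveI : Smooth k.left := (hP @Smooth).1 hx'
  haveI : Smooth l.left := (hP @Smooth).2 hx
  haveI : Surjective k.left := ⟨fun t => by
    obtain ⟨z, hz⟩ := isSurjective_of_with gX hs' (Points.ofChart x t)
    obtain ⟨w, hw, -⟩ := hsq t (ptOf z) (by rw [ofChart_eq x', mk_chartPt_ptOf, hz])
    exact ⟨w, hw⟩⟩
  have e : LocallyOfFiniteType (k.left ≫ U.hom) := by
    rw [Over.w k, ← Over.w l]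
    infer_instance
  exact AlgSpDescent.descends_smooth_surjective_of_ring _ (fun A B C _ _ _ _ _ _ _ _ _ h => by
      rw [RingHom.finiteType_algebraMap] at h ⊢
      exact AlgSpDescent.finiteType_of_smooth_faithfullyFlat A B C) k.left U.hom inferInstance inferInstance e

end Groth.Agent.DMGen16
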