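import Groth.Agent.Lib.StAlg16.OpenSub

/-!
# Open substacks of categories fibred in groupoids
-/

universe u

open CategoryTheory CategoryTheory.Functor CategoryTheory.Limits AlgebraicGeometry Opposite

set_option linter.style.haveILetI false
set_option linter.unusedSectionVars false
set_option backward.isDefEq.respectTransparency false
set_option backward.isDefEq.respectTransparency.types false

namespace Groth.Agent.DMGen16

open Groth.Agent.FC16 hiding overMap
open Groth.Agent.StAlg Groth.Agent.StAlg16 AlgSt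

variable {S : Scheme.{u}} {𝒳 : AlgSt.Cat S} {T : Set (Points 𝒳)}

/-- the inclusion of the objects with points in an open set is an open immersion, with a chart -/
theorem exists_fp_subIncl (gX : FibCat.IsFibGrpd 𝒳.p)
    (hT : ∀ ⦃V : Over S⦄ (y : FibCat.overCat V ⥤ᵇ 𝒳), IsOpen (Points.ofChart y ⁻¹' T))
    {U : Over S} (y : FibCat.overCat U ⥤ᵇ 𝒳) :
    ∃ (O : U.left.Opens) (E : FibCat.overCat (openPart O) ⥤ᵇ FibCat.fp y (subIncl 𝒳 (Qsub T))),
      (O : Set U.left) = Points.ofChart y ⁻¹' T ∧ FibCat.IsEquivOver E ∧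
        BasedFunctor.comp E (FibCat.fpFst y (subIncl 𝒳 (Qsub T))) = AlgSt.overMap (openIncl O) := by
  let O : U.left.Opens := ⟨Points.ofChart y ⁻¹' T, hT y⟩
  let L : FibCat.overCat (openPart O) ⥤ᵇ fullSub 𝒳 (Qsub T) :=
    { toFunctor := ObjectProperty.lift _ (BasedFunctor.comp (AlgSt.overMap (openIncl O)) y).toFunctor fun b =>
        (qsub_obj_iff gX T y ((AlgSt.overMap (openIncl O)).obj b)).2 fun t => (b.hom.left t).2
      w := (BasedFunctor.comp (AlgSt.overMap (openIncl O)) y).w }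
  let E : FibCat.overCat (openPart O) ⥤ᵇ FibCat.fp y (subIncl 𝒳 (Qsub T)) :=
    FibCat.fpLift (AlgSt.overMap (openIncl O)) L
      (Iso.refl (BasedFunctor.comp (AlgSt.overMap (openIncl O)) y))
  refine ⟨O, E, rfl, ?_, rfl⟩
  haveI : Mono (openIncl O) := Over.mono_of_mono_left _
  haveI : E.toFunctor.Faithful := ⟨fun {a b φ φ'} e =>
    Over.OverMorphism.ext (congrArg (fun t => t.hom.fst.left) e)⟩
  haveI : E.toFunctor.Full := ⟨fun {a b} ψ => by
    have w1 : ψ.hom.fst.left ≫ b.hom ≫ openIncl O = a.hom ≫ openIncl O := Over.w ψ.hom.fst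
    rw [← Category.assoc, cancel_mono] at w1
    refine ⟨Over.homMk ψ.hom.fst.left w1, fp_hom_ext (Over.OverMorphism.ext rfl) (ObjectProperty.hom_ext _ ?_)⟩
    have w2 : y.map ψ.hom.fst ≫ 𝟙 _ = 𝟙 _ ≫ ψ.hom.snd.hom := fp_w ψ
    exact (Category.comp_id _).symm.trans (w2.trans (Category.id_comp _))⟩
  refine isEquivOver_of _ fun η => ?_
  let b : (FibCat.overCat U).obj := η.obj.fst
  have hb : Qsub T (y.obj b) := qsub_of_hom η.obj.iso.hom η.obj.snd.property
  have hr : Set.range b.hom.left ⊆ Set.range O.ι := by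
    rintro _ ⟨t, rfl⟩
    rw [Scheme.Opens.range_ι]
    exact (qsub_obj_iff gX T y b).1 hb t
  let l : b.left ⟶ openPart O := Over.homMk (IsOpenImmersion.lift O.ι b.hom.left hr) (by
    show _ ≫ O.ι ≫ U.hom = _
    rw [IsOpenImmersion.lift_fac_assoc]
    exact Over.w b.hom)
  let o : (FibCat.overCat (openPart O)).obj := Over.mk l
  let a : (AlgSt.overMap (openIncl O)).obj o ≅ b :=
    Over.isoMk (Iso.refl _) ((Category.id_comp _).trans (Over.OverMorphism.ext (IsOpenImmersion.lift_fac _ _ _)).symm)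
  refine ⟨o, fpIsoMk a (ObjectProperty.isoMk _ (y.toFunctor.mapIso a ≪≫ η.obj.iso)) ?_,
    @isHomLift_of_fst _ _ _ _ _ _ _ _ _ _ _ _ _ ?_⟩
  · show y.map a.hom ≫ η.obj.iso.hom = 𝟙 _ ≫ (y.map a.hom ≫ η.obj.iso.hom)
    rw [Category.id_comp]
  · refine IsHomLift.of_fac' _ _ _ rfl rfl ?_
    change 𝟙 _ = _
    simp
    rfl

theorem isOpenImm_subIncl_qsub (gX : FibCat.IsFibGrpd 𝒳.p)
    (hT : ∀ ⦃V : Over S⦄ (y : FibCat.overCat V ⥤ᵇ 𝒳), IsOpen (Points.ofChart y ⁻¹' T)) :
    AlgSt.IsOpenImm (subIncl 𝒳 (Qsub T)) := fun U y => by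
  obtain ⟨O, E, -, hE, he⟩ := exists_fp_subIncl gX hT y
  refine ⟨⟨(AlgSp.yon S).obj (openPart O), AlgSp.IsAlgSpace.yon_obj _⟩,
    BasedFunctor.comp (AlgSt.toOverCat (openPart O)) E, isEquivOver_comp (toOverCat_isEquivOver _) hE, ?_⟩
  have e : AlgSt.spMapOfOver (BasedFunctor.comp (BasedFunctor.comp (AlgSt.toOverCat (openPart O)) E)
      (FibCat.fpFst y (subIncl 𝒳 (Qsub T)))) = (AlgSp.yon S).map (openIncl O) := by
    apply ObjectProperty.hom_ext
    rw [spMapOfOver_hom, show BasedFunctor.comp (BasedFunctor.comp (AlgSt.toOverCat (openPart O)) E)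
      (FibCat.fpFst y (subIncl 𝒳 (Qsub T))) = BasedFunctor.comp (AlgSt.toOverCat (openPart O))
        (AlgSt.overMap (openIncl O)) from congrArg (BasedFunctor.comp (AlgSt.toOverCat (openPart O))) he]
    ext T' x
    rfl
  show AlgSp.RepWith @IsOpenImmersion _
  rw [e]
  exact (AlgSp.repWith_yon_map_iff _ _).2 (inferInstanceAs (IsOpenImmersion O.ι))

end Groth.Agent.DMGen16
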