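import Groth.Agent.Lib.DMGen16.Scheme
import Groth.Agent.Lib.DMGen16.OpenSub
import Groth.Agent.Lib.DMGen16.Chart
import Groth.Agent.Lib.InertiaLoc16.Main
import Groth.Agent.Lib.DMDiag14.Basic

/-!
# Generically finite etale inertia
-/

universe u

open CategoryTheory CategoryTheory.Functor CategoryTheory.Limits AlgebraicGeometry Opposite

set_option linter.style.haveILetI false
set_option linter.unusedSectionVars false
set_option backward.isDefEq.respectTransparency false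
set_option backward.isDefEq.respectTransparency.types false

namespace Groth.Agent.DMGen16

open Groth.Agent.FC16 hiding overMap
open Groth.Agent.StAlg Groth.Agent.StAlg16 AlgSt

variable {S : Scheme.{u}} {𝒳 : AlgSt.Cat S}

theorem geomAutSurj_subIncl (Q : 𝒳.obj → Prop) : InertiaLoc16.GeomAutSurj (subIncl 𝒳 Q) := fun Ω _ _ t u γ => by
  refine ⟨{ hom := ⟨ObjectProperty.homMk γ.hom.1, (fullSub_isHomLift_iff _ _).2 γ.hom.2⟩
            inv := ⟨ObjectProperty.homMk γ.inv.1, (fullSub_isHomLift_iff _ _).2 γ.inv.2⟩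
            hom_inv_id := Functor.Fiber.hom_ext (ObjectProperty.hom_ext _ (congrArg Subtype.val γ.hom_inv_id :))
            inv_hom_id := Functor.Fiber.hom_ext (ObjectProperty.hom_ext _ (congrArg Subtype.val γ.inv_hom_id :)) },
    ?_⟩
  apply Aut.ext; apply Functor.Fiber.hom_ext; rfl

theorem exists_open_finite_etale {K : Precoverage Scheme.{u}} [IsLocallyNoetherian S]
    (h𝒳 : AlgSt.IsDM K 𝒳) (hft : AlgSt.LocQ (AlgSp.LocP @LocallyOfFiniteType) (FibCat.toSelf 𝒳))
    (hΔ : AlgSt.RepByAlgSpWith AlgSp.IsAffineMor (FibCat.diag (FibCat.toSelf 𝒳)))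
    (hred : AlgSt.SmoothLocally (fun T => IsReduced T) 𝒳) (hne : Nonempty (AlgSt.Points 𝒳)) :
    ∃ (𝒰 : AlgSt.Cat S) (j : 𝒰 ⥤ᵇ 𝒳), AlgSt.IsOpenImm j ∧ Nonempty (AlgSt.Points 𝒰) ∧
      AlgSt.RepByAlgSpWith (AlgSp.IsFiniteMor ⊓ AlgSp.IsEtaleMor) (FibCat.inertiaToBase (FibCat.toSelf 𝒰)) := by
  have hdm := DMDiag14.isDMOver_of_isDM h𝒳
  obtain ⟨h, U, x, hxe, hxs⟩ := h𝒳
  have gX := h.isStack.1
  have gI := FC16.inertia_isFibGrpd gX (presCart_of_isFibGrpd selfOver_isFibGrpd (FibCat.toSelf 𝒳))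
  let I := FibCat.inertiaToBase (FibCat.toSelf 𝒳)
  have hIa : AlgSt.RepByAlgSpWith AlgSp.IsAffineMor I := with_inertiaToBase gX selfOver_isFibGrpd hΔ
  have hIu : AlgSt.RepByAlgSpWith (AlgSp.LocP (@LocallyOfFiniteType ⊓ @FormallyUnramified)) I :=
    with_inertiaToBase gX selfOver_isFibGrpd hdm
  have hx : AlgSt.RepByAlgSpWith (AlgSp.LocP @Smooth) x := repByAlgSpWith_mono
    (fun _ _ _ _ ha => StAlg.locP_mono (fun _ _ g (_ : Etale g) => inferInstanceAs (Smooth g))
      (AlgSpDescent.locP_etale_of_isEtaleMor ha)) hxe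
  haveI : IsReduced U.left := hred U x hx
  haveI : LocallyOfFiniteType U.hom := locallyOfFiniteType_chart gX hft x hx
  haveI : IsLocallyNoetherian U.left := LocallyOfFiniteType.isLocallyNoetherian U.hom
  obtain ⟨W, π, E, hE, ⟨j⟩, haff, hl, hu⟩ := exists_chart gI gX hIa hIu x
  haveI := haff; haveI := hl; haveI := hu
  haveI : Nonempty U.left := by
    obtain ⟨p⟩ := hne
    obtain ⟨z, -⟩ := isSurjective_of_with gX hxs p
    exact ⟨ptOf z⟩
  obtain ⟨O, ⟨o, ho⟩, hfin, het⟩ := exists_isFinite_etale_restrict π.left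
  let V : Over S := openPart O
  let x' : FibCat.overCat V ⥤ᵇ 𝒳 := BasedFunctor.comp (AlgSt.overMap (openIncl O)) x
  have hx' : AlgSt.RepByAlgSpWith (AlgSp.LocP @Smooth) x' :=
    with_comp goodP_locP (overCat_isFibGrpd V) (overCat_isFibGrpd U)
      (with_locP_overMap (openIncl O) (inferInstanceAs (Smooth O.ι))) hx
  let T : Set (Points 𝒳) := Set.range (Points.ofChart x')
  have hsq : ∀ ⦃V' : Over S⦄ (y : FibCat.overCat V' ⥤ᵇ 𝒳), ∃ (W' : Over S) (k : W' ⟶ V') (l : W' ⟶ V),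
      Nonempty (BasedFunctor.comp (AlgSt.overMap k) y ≅ BasedFunctor.comp (AlgSt.overMap l) x') ∧ Smooth k.left ∧
      Points.ofChart y ⁻¹' T = Set.range k.left := fun V' y => by
    obtain ⟨W', k, l, ⟨i⟩, hs, hP⟩ := exists_chart_square gX (repByAlgSp1_of_with hx') V' y
    refine ⟨W', k, l, ⟨i⟩, (hP @Smooth).1 hx', ?_⟩
    have := preimage_image_ofChart i hs Set.univ
    rwa [Set.image_univ, Set.preimage_univ, Set.image_univ] at this
  have hT : ∀ ⦃V' : Over S⦄ (y : FibCat.overCat V' ⥤ᵇ 𝒳), IsOpen (Points.ofChart y ⁻¹' T) := fun V' y => by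
    obtain ⟨W', k, l, -, hk, e⟩ := hsq y
    haveI := hk
    rw [e]
    exact k.left.isOpenMap.isOpen_range
  let 𝒰 := fullSub 𝒳 (Qsub T)
  let J := subIncl 𝒳 (Qsub T)
  have gU : FibCat.IsFibGrpd 𝒰.p := fullSub_isFibGrpd gX (fun φ h => qsub_of_hom φ h)
  have hJ := isOpenImm_subIncl_qsub gX hT
  have hJe : AlgSt.RepByAlgSpWith AlgSp.IsEtaleMor J := repByAlgSpWith_mono
    (fun _ hF U' a ha => (AlgSpDescent.isEtaleMor_iff_locP hF (AlgSp.IsAlgSpace.yon_obj U') a).2
      (AlgSpace.locP_of_repWith (AlgSp.IsAlgSpace.yon_obj U')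
        (AlgSpace.repWith_mono (fun _ _ g (_ : IsOpenImmersion g) => (inferInstance : Etale g)) ha))) hJ
  have gIU := FC16.inertia_isFibGrpd gU (presCart_of_isFibGrpd selfOver_isFibGrpd (FibCat.toSelf 𝒰))
  let π₀ : openPart (π.left ⁻¹ᵁ O) ⟶ V := Over.homMk (π.left ∣_ O) (by
    show (π.left ∣_ O) ≫ O.ι ≫ U.hom = (π.left ⁻¹ᵁ O).ι ≫ W.hom
    rw [morphismRestrict_ι_assoc, Over.w π])
  have main : ∀ {P : MorphismProperty (AlgSp.Sp S)}, PbP P → AlgSp.IsLocalOnBase AlgSp.IsFppfCover P →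
      P ((AlgSp.yon S).map π₀) →
      AlgSt.RepByAlgSpWith P (FibCat.inertiaToBase (FibCat.toSelf 𝒰)) := by
    intro P hPb hPl hP
    have hV : RepOf P (FibCat.fpFst x' I) := repOf_restrict hE j (openIncl O) (fst := openIncl (π.left ⁻¹ᵁ O)) (snd := π₀)
      (IsPullback.of_map_of_faithful (Over.forget S) (isPullback_morphismRestrict π.left O).flip) hP
    have hX' := IsoNat5.with_fpFst_of_repOf hPb x' hV
    intro U' w
    let y := BasedFunctor.comp w J
    obtain ⟨W', k, l, ⟨i⟩, hk, e⟩ := hsq y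
    haveI := hk
    have hall : ∀ v, Points.ofChart y v ∈ T := fun v => by
      rw [← range_map_subIncl_qsub T]
      exact ⟨Points.ofChart w v, by rw [ofChart_eq, ofChart_eq]; exact (StAlg16.map_comp_apply w J _).symm⟩
    have hsurj : Function.Surjective k.left := fun v => (show v ∈ Set.range k.left by rw [← e]; exact hall v)
    have h1 : RepOf P (FibCat.fpFst (BasedFunctor.comp (AlgSt.overMap k) y) I) :=
      repOf_left i (repOf_of_equiv (pasteL_isEquivOver (AlgSt.overMap l) x' I) (Iso.refl _) (hX' W' (AlgSt.overMap l)))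
    have h2 : RepOf P (FibCat.fpFst y I) := repOf_of_cover hPb hPl gI gX
      (repByAlgSp1_of_with hIa) y (fun _ => W') (fun _ => k) (isFppfCover_yon k hsurj) fun _ => h1
    exact repOf_of_equiv' (E := InertiaLoc16.compare J w)
      (InertiaLoc16.compare_isEquivOver gU gX hJe (geomAutSurj_subIncl _) w) (Iso.refl _) h2
  refine ⟨𝒰, J, hJ, ?_, ?_⟩
  · obtain ⟨w, -⟩ : Points.ofChart x' ⟨o, ho⟩ ∈ Set.range (Points.map J) := by
      rw [range_map_subIncl_qsub]; exact ⟨_, rfl⟩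
    exact ⟨w⟩
  · refine repByAlgSpWith_mono (fun _ hF U' a (ha : (AlgSp.RepWith @IsFinite ⊓ AlgSp.LocP @Etale) a) =>
      ⟨AlgSpace.isFiniteMor_iff_repWith.2 ha.1,
        (AlgSpDescent.isEtaleMor_iff_locP hF (AlgSp.IsAlgSpace.yon_obj U') a).2 ha.2⟩)
      (StAlg16.with_inf (preIso_of_pullback pbP_repWith) (preIso_of_pullback pbP_locP) gIU gU ?_ ?_)
    · refine main pbP_repWith (fun ι Y Yi g hY hYi hg => ?_) ((AlgSp.repWith_yon_map_iff _ _).2 hfin)
      intro X f hX Xi p q hXi sq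
      simpa only [AlgSpace.isFiniteMor_iff_repWith] using
        isLocalOnBase_fppf_of_fpqc AlgSpDescent.isLocalOnBase_fpqc_isFiniteMor Yi g hY hYi hg f hX Xi p q hXi sq
    · exact main pbP_locP (isLocalOnBase_fppf_of_fpqc (AlgSpDescent.isLocalOnBase_fpqc_locP
        AlgSpDescent.precompEtale_etale AlgSpDescent.descendsEtaleSource_etale)) ((locP_yon_iff _).2 het)

end Groth.Agent.DMGen16
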