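import Groth.Agent.Lib.QFDense4Scheme
import Groth.Agent.Lib.OrbitTop19.Flat
import Groth.Agent.Lib.FlatUnr.Basic
import Groth.Agent.Lib.EtBase.Unramified

/-!
# Generic finite etaleness of unramified morphisms
-/

universe u

open CategoryTheory CategoryTheory.Limits AlgebraicGeometry Topology

set_option linter.style.haveILetI false
set_option backward.isDefEq.respectTransparency.types false

namespace Groth.Agent.DMGen16

theorem exists_isFinite_etale_restrict {W U : Scheme.{u}} (i : W ⟶ U) [IsReduced U] [IsLocallyNoetherian U]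
    [Nonempty U] [LocallyOfFiniteType i] [QuasiCompact i] [FormallyUnramified i] :
    ∃ O : U.Opens, (O : Set U).Nonempty ∧ IsFinite (i ∣_ O) ∧ Etale (i ∣_ O) := by
  haveI : LocallyQuasiFinite i := EtBase.locallyQuasiFinite_of_formallyUnramified i
  obtain ⟨O₁, -, ⟨x, hx⟩, hfin⟩ := QFDense4.exists_isFinite_restrict i ⊤ ⟨Classical.arbitrary U, trivial⟩
  obtain ⟨O₂, hO₂, hxO₂, hO₂₁⟩ := exists_isAffineOpen_mem_and_subset (X := U) hx
  haveI : IsAffine O₂.toScheme := hO₂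
  haveI : IsLocallyNoetherian O₂.toScheme := isLocallyNoetherian_of_isOpenImmersion O₂.ι
  haveI : IsNoetherian O₂.toScheme := {}
  haveI : IsReduced O₂.toScheme := isReduced_of_isOpenImmersion O₂.ι
  haveI : Nonempty O₂.toScheme := ⟨⟨x, hxO₂⟩⟩
  haveI : LocallyOfFiniteType (i ∣_ O₂) := IsZariskiLocalAtTarget.restrict ‹_› O₂
  haveI : QuasiCompact (i ∣_ O₂) := IsZariskiLocalAtTarget.restrict ‹_› O₂
  haveI : FormallyUnramified (i ∣_ O₂) := IsZariskiLocalAtTarget.restrict ‹_› O₂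
  haveI : IsLocallyNoetherian (i ⁻¹ᵁ O₂).toScheme := LocallyOfFiniteType.isLocallyNoetherian (i ∣_ O₂)
  haveI : LocallyOfFinitePresentation (i ∣_ O₂) := LocallyOfFinitePresentation.iff_locallyOfFiniteType.2 ‹_›
  obtain ⟨W', hW', ⟨y, hy⟩, hflat⟩ := OrbitTop19.exists_open_flat (i ∣_ O₂)
  let O₃ : O₂.toScheme.Opens := ⟨W', hW'⟩
  let e : Arrow.mk (i ∣_ O₂ ∣_ O₃) ≅ Arrow.mk (i ∣_ O₂.ι ''ᵁ O₃) := morphismRestrictRestrict i O₂ O₃
  haveI := RingHom.toMorphismProperty_respectsIso_iff.1 RingHom.Flat.respectsIso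
  haveI : Flat (i ∣_ O₂ ∣_ O₃) := (Flat.iff_flat_stalkMap _).2 fun z =>
    ((MorphismProperty.arrow_mk_iso_iff (RingHom.toMorphismProperty fun {_ _} _ _ g => g.Flat)
      (morphismRestrictStalkMap (i ∣_ O₂) O₃ z)).2 (hflat _ (show (i ∣_ O₂) z.1 ∈ W' from z.2)))
  refine ⟨O₂.ι ''ᵁ O₃, ⟨O₂.ι y, y, hy, rfl⟩, ?_, ?_⟩
  · haveI : IsFinite (i ∣_ O₁) := hfin
    have hle : O₂.ι ''ᵁ O₃ ≤ O₁ := (Scheme.Opens.ι_image_le _ _).trans hO₂₁
    exact MorphismProperty.of_isPullback (P := @IsFinite)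
      (IsPullback.of_right (h₁₁ := W.homOfLE (show i ⁻¹ᵁ (O₂.ι ''ᵁ O₃) ≤ i ⁻¹ᵁ O₁ from fun z hz => hle hz))
        (h₁₂ := (i ⁻¹ᵁ O₁).ι) (h₂₁ := U.homOfLE hle) (h₂₂ := O₁.ι)
        (by simpa using (isPullback_morphismRestrict i (O₂.ι ''ᵁ O₃)).flip)
        (by rw [← cancel_mono O₁.ι]; simp)
        (isPullback_morphismRestrict i O₁).flip) hfin
  · rw [← MorphismProperty.arrow_mk_iso_iff (P := @Etale) e]
    haveI : LocallyOfFiniteType (i ∣_ O₂ ∣_ O₃) := IsZariskiLocalAtTarget.restrict ‹_› O₃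
    haveI : FormallyUnramified (i ∣_ O₂ ∣_ O₃) := IsZariskiLocalAtTarget.restrict ‹_› O₃
    haveI : IsReduced O₃.toScheme := isReduced_of_isOpenImmersion O₃.ι
    haveI : IsLocallyNoetherian O₃.toScheme := isLocallyNoetherian_of_isOpenImmersion O₃.ι
    refine FlatUnr.etale_of_flat_formallyUnramified _ fun z => ?_
    obtain ⟨A, hA, hzA, -⟩ := exists_isAffineOpen_mem_and_subset (X := O₃.toScheme) (x := z) (U := ⊤) trivial
    haveI : IsAffine A.toScheme := hA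
    haveI : IsLocallyNoetherian A.toScheme := isLocallyNoetherian_of_isOpenImmersion A.ι
    haveI : IsNoetherian A.toScheme := {}
    exact ⟨A, hzA, finite_irreducibleComponents_of_isNoetherian (X := A.toScheme)⟩

end Groth.Agent.DMGen16
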